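import Groth.Agent.Cohen.Structure
import Groth.Agent.S11741
import Mathlib.RingTheory.RegularLocalRing.Defs

/-! Complete regular local rings with a coefficient field are power series rings. -/

universe u

open IsLocalRing

namespace Groth.Agent.Cohen2

theorem exists_algEquiv (R : Type u) [CommRing R] [IsRegularLocalRing R]
    [IsAdicComplete (maximalIdeal R) R] (k : Type u) [Field k] [Algebra k R]
    (hk : Function.Surjective ((residue R).comp (algebraMap k R))) :
    ∃ d : ℕ, Nonempty (R ≃ₐ[k] MvPowerSeries (Fin d) k) := by
  classical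
  haveI : Module.Finite (ResidueField R) (CotangentSpace R) := inferInstance
  let d := Module.finrank (ResidueField R) (CotangentSpace R)
  let b := Module.finBasis (ResidueField R) (CotangentSpace R)
  choose c hc using fun i : Fin d => (maximalIdeal R).toCotangent_surjective (b i)
  obtain ⟨ψ, hψ⟩ := ArtKit.exists_evalAdic (R := k) (maximalIdeal R) (fun i => (c i : R)) fun i => (c i).2
  have hψm : ∀ i : Fin d, ψ (MvPowerSeries.X i) ∈ maximalIdeal R := fun i => by
    rw [hψ]; exact (c i).2
  have heq : (fun i : Fin d => (maximalIdeal R).toCotangent ⟨ψ (MvPowerSeries.X i), hψm i⟩) = b := by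
    funext i
    rw [← hc i]
    exact congrArg _ (Subtype.ext (hψ i))
  have hbij : Function.Bijective ψ := (S11741.result k R hk d ψ hψm (by rw [heq]; exact b.linearIndependent)
    (by rw [heq]; exact b.span_eq)).1 inferInstance
  exact ⟨d, ⟨(AlgEquiv.ofBijective ψ hbij).symm⟩⟩

/-- A complete local ring containing a field has a coefficient field. -/
theorem exists_coefficientField (R : Type u) [CommRing R] [IsLocalRing R]
    [IsAdicComplete (maximalIdeal R) R] (k₀ : Type u) [Field k₀] [Algebra k₀ R] :
    ∃ g : ResidueField R →+* R, ∀ x, residue R (g x) = x := by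
  obtain ⟨Λ, _, hΛ, g, hg⟩ := Cohen.exists_coefficients R
  rcases hΛ with hf | ⟨_, hdvr, -, p, hp, hm⟩
  · letI := hf.toField
    let e : Λ ≃+* ResidueField R :=
      RingEquiv.ofBijective ((residue R).comp g) ⟨RingHom.injective _, hg⟩
    exact ⟨g.comp e.symm.toRingHom, fun x => e.apply_symm_apply x⟩
  · have hpR : (p : R) = 0 := by
      by_contra hne
      have hk : (p : k₀) ≠ 0 := fun h => hne (by rw [← map_natCast (algebraMap k₀ R), h, map_zero])
      have hu : IsUnit (p : R) := by
        rw [← map_natCast (algebraMap k₀ R)]
        exact (isUnit_iff_ne_zero.2 hk).map _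
      have h1 : ¬ IsUnit ((residue R).comp g (p : Λ)) := by
        intro h
        obtain ⟨v, hv⟩ := hg (Ring.inverse ((residue R).comp g (p : Λ)))
        have h2 : (residue R).comp g ((p : Λ) * v) = 1 := by
          rw [map_mul, hv, Ring.mul_inverse_cancel _ h]
        have h3 : (p : Λ) * v - 1 ∈ RingHom.ker ((residue R).comp g) := by
          simp [RingHom.mem_ker, map_sub, h2]
        have hker : RingHom.ker ((residue R).comp g) ≤ maximalIdeal Λ :=
          le_maximalIdeal (RingHom.ker_ne_top _)
        have hpm : (p : Λ) * v ∈ maximalIdeal Λ :=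
          Ideal.mul_mem_right _ _ (hm ▸ Ideal.mem_span_singleton_self _)
        have : (1 : Λ) ∈ maximalIdeal Λ := by
          have := sub_mem hpm (hker h3)
          simpa using this
        exact (maximalIdeal.isMaximal Λ).ne_top ((Ideal.eq_top_iff_one _).2 this)
      apply h1
      rw [map_natCast]
      exact (map_natCast (residue R) p) ▸ hu.map (residue R)
    have hker : maximalIdeal Λ ≤ RingHom.ker g := by
      rw [hm, Ideal.span_le]
      simp [hpR, RingHom.mem_ker]
    let g' : ResidueField Λ →+* R := Ideal.Quotient.lift (maximalIdeal Λ) g fun x hx => hker hx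
    have hg' : Function.Surjective ((residue R).comp g') := fun x => by
      obtain ⟨y, rfl⟩ := hg x
      exact ⟨residue Λ y, rfl⟩
    let e : ResidueField Λ ≃+* ResidueField R :=
      RingEquiv.ofBijective ((residue R).comp g') ⟨RingHom.injective _, hg'⟩
    exact ⟨g'.comp e.symm.toRingHom, fun x => e.apply_symm_apply x⟩

end Groth.Agent.Cohen2
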